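import Mathlib

/-!
# A complex with an almost contracting homotopy is homotopy equivalent to a single object
-/

set_option backward.isDefEq.respectTransparency false
set_option backward.isDefEq.respectTransparency.types false
set_option linter.style.haveILetI false
set_option autoImplicit false

universe v u

open CategoryTheory CategoryTheory.Limits HomologicalComplex

namespace Groth.Agent.PerfLocus

variable {A : Type u} [Category.{v} A] [Abelian A] (C : CochainComplex A ℤ) (h : ∀ a b : ℤ, C.X a ⟶ C.X b)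

/-- `dh + hd` in degree `b`. -/
noncomputable def nh (a b c : ℤ) : C.X b ⟶ C.X b := C.d b c ≫ h c b + h b a ≫ C.d a b

/-- The map `dh + hd` in degree `b`. -/
noncomputable def phi (b : ℤ) : C.X b ⟶ C.X b := nh C h (b - 1) b (b + 1)

lemma phi_eq {a b c : ℤ} (hab : a + 1 = b) (hbc : b + 1 = c) : phi C h b = nh C h a b c := by
  obtain rfl : a = b - 1 := by omega
  subst hbc
  rfl

lemma phi_comm {b c : ℤ} (hbc : b + 1 = c) : phi C h b ≫ C.d b c = C.d b c ≫ phi C h c := by
  rw [phi_eq C h (show b - 1 + 1 = b by omega) hbc, phi_eq C h hbc (show c + 1 = c + 1 from rfl)]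
  simp [nh, Preadditive.add_comp, Preadditive.comp_add]

/-- **Concentration.** -/
theorem exists_homotopyEquiv_single (i : ℤ) (hφ : ∀ b, b ≠ i → IsIso (phi C h b)) :
    ∃ (V : A) (j : V ⟶ C.X i) (p : C.X i ⟶ V), j ≫ p = 𝟙 V ∧
      Nonempty (HomotopyEquiv C ((HomologicalComplex.single A (ComplexShape.up ℤ) i).obj V)) := by
  classical
  let ψ : ∀ b, C.X b ⟶ C.X b := fun b =>
    if hb : b ≠ i then @inv _ _ _ _ (phi C h b) (hφ b hb) else 0
  have hψ₁ : ∀ b, b ≠ i → phi C h b ≫ ψ b = 𝟙 _ := fun b hb => by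
    have := hφ b hb
    simp [ψ, hb]
  have hψ₂ : ∀ b, b ≠ i → ψ b ≫ phi C h b = 𝟙 _ := fun b hb => by
    have := hφ b hb
    simp [ψ, hb]
  have hψd : ∀ b c, b + 1 = c → b ≠ i → c ≠ i → ψ b ≫ C.d b c = C.d b c ≫ ψ c := fun b c hbc hb hc => by
    calc ψ b ≫ C.d b c = ψ b ≫ (C.d b c ≫ phi C h c) ≫ ψ c := by
          rw [Category.assoc, hψ₁ c hc, Category.comp_id]
      _ = ψ b ≫ (phi C h b ≫ C.d b c) ≫ ψ c := by rw [phi_comm C h hbc]
      _ = C.d b c ≫ ψ c := by rw [Category.assoc, ← Category.assoc, hψ₂ b hb, Category.id_comp]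
  obtain ⟨l, hl⟩ : ∃ l, l + 1 = i := ⟨i - 1, by omega⟩
  obtain ⟨u, hu⟩ : ∃ u, i + 1 = u := ⟨i + 1, rfl⟩
  let h' : C.X u ⟶ C.X i := ψ u ≫ h u i
  let q : C.X i ⟶ C.X i := h i l ≫ ψ l ≫ C.d l i
  have hd' : C.d i u ≫ h' ≫ C.d i u = C.d i u := by
    have e1 : h u i ≫ C.d i u = phi C h u - C.d u (u + 1) ≫ h (u + 1) u := by
      rw [phi_eq C h hu rfl]; simp [nh]
    simp only [h', Category.assoc, e1, Preadditive.comp_sub, hψ₂ u (by omega), Category.comp_id]
    rw [reassoc_of% (hψd u (u + 1) rfl (by omega) (by omega)), ← Category.assoc, C.d_comp_d, zero_comp,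
      sub_zero]
  have hq : C.d l i ≫ q = C.d l i := by
    have e1 : C.d l i ≫ h i l = phi C h l - h l (l - 1) ≫ C.d (l - 1) l := by
      rw [phi_eq C h (show l - 1 + 1 = l by omega) hl]; simp [nh]
    simp only [q, reassoc_of% e1, Preadditive.sub_comp, Category.assoc]
    rw [reassoc_of% (hψ₁ l (by omega)), ← reassoc_of% (hψd (l - 1) l (by omega) (by omega) (by omega)),
      C.d_comp_d, comp_zero, comp_zero, sub_zero]
  have hqd : q ≫ C.d i u = 0 := by simp [q]
  have hqq : q ≫ q = q := by
    conv_lhs => arg 1; simp only [q]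
    simp only [Category.assoc, hq]
    rfl
  let e : C.X i ⟶ C.X i := (𝟙 _ - C.d i u ≫ h') ≫ (𝟙 _ - q)
  have hed : e ≫ C.d i u = 0 := by
    simp only [e, Category.assoc, Preadditive.sub_comp, Category.id_comp, hqd, sub_zero]
    rw [hd', sub_self]
  have hde : C.d l i ≫ e = 0 := by
    simp only [e, Preadditive.comp_sub, Preadditive.sub_comp, Category.comp_id, Category.id_comp,
      Category.assoc, HomologicalComplex.d_comp_d_assoc, zero_comp, sub_zero, hq, sub_self]
  have hee : e ≫ e = e := by
    conv_lhs => arg 2; simp only [e]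
    rw [Preadditive.sub_comp, Category.id_comp, Preadditive.comp_sub, ← Category.assoc e,
      ← Category.assoc e, hed, zero_comp, zero_comp, sub_zero]
    simp only [e, Category.assoc]
    congr 1
    simp [hqq]
  let jV : Abelian.image e ⟶ C.X i := Abelian.image.ι e
  let pV : C.X i ⟶ Abelian.image e := Abelian.factorThruImage e
  have hfac : pV ≫ jV = e := Abelian.image.fac e
  have hjp : jV ≫ pV = 𝟙 _ := by
    rw [← cancel_mono jV, ← cancel_epi pV]
    simp [hfac, reassoc_of% hfac, hee]
  have hjd : jV ≫ C.d i u = 0 := by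
    rw [← cancel_epi pV, reassoc_of% hfac, hed, comp_zero]
  have hdp : C.d l i ≫ pV = 0 := by
    rw [← cancel_mono jV, Category.assoc, hfac, hde, zero_comp]
  let hom : C ⟶ (HomologicalComplex.single A (ComplexShape.up ℤ) i).obj (Abelian.image e) :=
    HomologicalComplex.mkHomToSingle pV (fun m hm => by
      obtain rfl : m = l := by simp at hm; omega
      exact hdp)
  let back : (HomologicalComplex.single A (ComplexShape.up ℤ) i).obj (Abelian.image e) ⟶ C :=
    HomologicalComplex.mkHomFromSingle jV (fun m hm => by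
      obtain rfl : u = m := by simp at hm; omega
      exact hjd)
  let k : ∀ a b, C.X a ⟶ C.X b := fun a b =>
    if b + 1 = a then
      (if i < a then ψ a ≫ h a b
      else if ha : a = i then eqToHom (by rw [ha]) ≫ (𝟙 _ - C.d i u ≫ h') ≫ h i b ≫ ψ b
      else h a b ≫ ψ b)
    else 0
  have hk : ∀ a b c, a + 1 = b → b + 1 = c →
      (hom ≫ back).f b + (C.d b c ≫ k c b + k b a ≫ C.d a b) = 𝟙 (C.X b) := by
    intro a b c hab hbc
    rcases lt_trichotomy b i with hb | rfl | hb
    · have h0 : (hom ≫ back).f b = 0 := by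
        have hz := HomologicalComplex.isZero_single_obj_X (ComplexShape.up ℤ) i (Abelian.image e) b hb.ne
        rw [HomologicalComplex.comp_f, hz.eq_of_tgt (hom.f b) 0, zero_comp]
      rw [h0, zero_add]
      have kb : k b a = h b a ≫ ψ a := by
        simp [k, hab, show ¬ i < b by omega, hb.ne]
      have kc : C.d b c ≫ k c b = C.d b c ≫ h c b ≫ ψ b := by
        by_cases hci : c = i
        · subst hci
          simp [k, hbc]
        · simp [k, hbc, show ¬ i < c by omega, hci]
      rw [kb, kc, Category.assoc, hψd a b hab (by omega) hb.ne, ← hψ₁ b hb.ne]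
      simp [phi_eq C h hab hbc, nh, Preadditive.add_comp]
    · obtain rfl : a = l := by omega
      obtain rfl : c = u := by omega
      have h0 : (hom ≫ back).f b = e := by
        simp [hom, back, hfac]
      have kb : k b a = (𝟙 _ - C.d b c ≫ h') ≫ h b a ≫ ψ a := by
        simp [k, hab]
      have kc : k c b = h' := by
        simp [k, hbc, show b < c by omega, h']
      rw [h0, kb, kc]
      simp only [e, q, Category.assoc, Preadditive.comp_sub, Category.comp_id, Preadditive.sub_comp,
        Category.id_comp]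
      abel
    · have h0 : (hom ≫ back).f b = 0 := by
        have hz := HomologicalComplex.isZero_single_obj_X (ComplexShape.up ℤ) i (Abelian.image e) b hb.ne'
        rw [HomologicalComplex.comp_f, hz.eq_of_tgt (hom.f b) 0, zero_comp]
      rw [h0, zero_add]
      have kb : k b a = ψ b ≫ h b a := by simp [k, hab, hb]
      have kc : k c b = ψ c ≫ h c b := by simp [k, hbc, show i < c by omega]
      rw [kb, kc, ← reassoc_of% (hψd b c hbc hb.ne' (by omega)), ← hψ₂ b hb.ne', phi_eq C h hab hbc]
      simp [nh, Preadditive.comp_add]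
  refine ⟨_, jV, pV, hjp, ⟨⟨hom, back, (Homotopy.symm ⟨k, fun a b hab => ?_, fun b => ?_⟩), Homotopy.ofEq ?_⟩⟩⟩
  · simp only [k]
    rw [if_neg]
    simpa using hab
  · rw [dNext_eq k (show (ComplexShape.up ℤ).Rel b (b + 1) from rfl),
      prevD_eq k (show (ComplexShape.up ℤ).Rel (b - 1) b from by simp)]
    refine (hk (b - 1) b (b + 1) (by omega) rfl).symm.trans ?_
    exact add_comm _ _
  · ext
    simp [hom, back, reassoc_of% hjp]

end Groth.Agent.PerfLocus
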