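import Groth.Agent.Betti.Fibre
import Groth.Agent.KFlat.PullTensor

/-!
# Morphisms of split free modules from their fibres
-/

set_option backward.isDefEq.respectTransparency false
set_option backward.isDefEq.respectTransparency.types false
set_option linter.style.haveILetI false
set_option autoImplicit false

universe u

open CategoryTheory Limits AlgebraicGeometry TensorProduct Opposite TopologicalSpace

namespace Groth.Agent.PerfLocus

open Groth.Agent.Betti

variable {Y Z : Scheme.{u}} (g : Z ⟶ Y) (p : Z)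

/-- The endomorphism of `O` given by a global section. -/
noncomputable def homOfSec (a : Y.presheaf.obj (op ⊤)) :
    Coh.structureModule Y ⟶ Coh.structureModule Y :=
  (SheafOfModules.unitHomEquiv (R := Y.ringCatSheaf) (SheafOfModules.unit Y.ringCatSheaf)).symm
    (PresheafOfModules.sectionsMk (fun U => Y.presheaf.map (homOfLE (le_top : U.unop ≤ ⊤)).op a)
      fun U V f => by
        change Y.presheaf.map f (Y.presheaf.map _ a) = _
        rw [← ConcreteCategory.comp_apply, ← Functor.map_comp]
        rfl)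

lemma homOfSec_app (a : Y.presheaf.obj (op ⊤)) :
    (homOfSec a).app ⊤ (1 : Y.presheaf.obj (op ⊤)) = a := by
  have h := congrArg (fun s : (SheafOfModules.unit Y.ringCatSheaf).sections => s.val (op (⊤ : Y.Opens)))
    ((SheafOfModules.unitHomEquiv (R := Y.ringCatSheaf) (SheafOfModules.unit Y.ringCatSheaf)).apply_symm_apply
      (PresheafOfModules.sectionsMk (fun U => Y.presheaf.map (homOfLE (le_top : U.unop ≤ ⊤)).op a)
      fun U V f => by
        change Y.presheaf.map f (Y.presheaf.map _ a) = _
        rw [← ConcreteCategory.comp_apply, ← Functor.map_comp]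
        rfl))
  refine Eq.trans h ?_
  change Y.presheaf.map (homOfLE _).op a = a
  rw [Subsingleton.elim (homOfLE (le_top : (⊤ : Y.Opens) ≤ ⊤)) (𝟙 _), op_id, Y.presheaf.map_id]
  rfl

/-- A global section as a function of the fibre. -/
noncomputable abbrev ψT : Y.presheaf.obj (op ⊤) →+* Z.presheaf.stalk p := ψ g p ⊤ trivial

lemma θ_map (u : Coh.structureModule Y ⟶ Coh.structureModule Y)
    (v : (fib g p).obj (Coh.structureModule Y)) :
    θ g p ((fib g p).map u v) = ψT g p (u.app ⊤ (1 : Y.presheaf.obj (op ⊤))) * θ g p v := by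
  let e : (fib g p).obj (Coh.structureModule Y) :=
    ev g p (Coh.structureModule Y) ⊤ trivial (1 : Y.presheaf.obj (op ⊤))
  have hv : v = θ g p v • e := by
    refine (θ_bijective g p).1 ?_
    rw [map_smul, θ_ev, map_one, smul_eq_mul, mul_one]
  have he : θ g p ((fib g p).map u e) = ψT g p (u.app ⊤ (1 : Y.presheaf.obj (op ⊤))) :=
    (congrArg (θ g p) (ev_natural g p u ⊤ trivial (1 : Y.presheaf.obj (op ⊤)))).trans (θ_ev g p ⊤ trivial _)
  conv_lhs => rw [hv, map_smul, map_smul, he, smul_eq_mul, mul_comm]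

variable {M N : Y.Modules} {m n : ℕ} (S : Split M m) (T : Split N n)

/-- The matrix of global functions of a morphism of split free modules. -/
noncomputable def mat (f : M ⟶ N) : Matrix (Fin n) (Fin m) (Y.presheaf.obj (op ⊤)) :=
  Matrix.of fun k l => (S.ι l ≫ f ≫ T.π k).app ⊤ (1 : Y.presheaf.obj (op ⊤))

lemma sum_apply' {R : Type u} [CommRing R] {A B : ModuleCat.{u} R} {ι : Type} (s : Finset ι)
    (φ : ι → (A ⟶ B)) (v : A) : (∑ i ∈ s, φ i) v = ∑ i ∈ s, φ i v := by
  induction s using Finset.cons_induction with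
  | empty => rfl
  | cons a s ha ih =>
    rw [Finset.sum_cons, Finset.sum_cons, ← ih]
    rfl

lemma equiv_map (f : M ⟶ N) (v : (fib g p).obj M) :
    T.equiv g p ((fib g p).map f v) = ((mat S T f).map (ψT g p)).mulVec (S.equiv g p v) := by
  funext k
  have h : f ≫ T.π k = ∑ l, S.π l ≫ (S.ι l ≫ f ≫ T.π k) := by
    conv_lhs => rw [← Category.id_comp f, ← S.sum]
    simp [Preadditive.sum_comp, Category.assoc]
  change θ g p ((fib g p).map (T.π k) ((fib g p).map f v)) = _
  rw [← ConcreteCategory.comp_apply, ← Functor.map_comp, h, Functor.map_sum, sum_apply', map_sum]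
  simp only [Matrix.mulVec, dotProduct]
  refine Finset.sum_congr rfl fun l _ => ?_
  rw [Functor.map_comp]
  exact θ_map g p _ _

lemma exists_common_denominator [IsAffine Y] (hs : Function.Surjective (g.stalkMap p))
    {ι : Type} [Finite ι] (z : ι → Z.presheaf.stalk p) :
    ∃ (c : Y.presheaf.obj (op ⊤)) (a : ι → Y.presheaf.obj (op ⊤)),
      IsUnit (ψT g p c) ∧ ∀ j, ψT g p (a j) = ψT g p c * z j := by
  have hy : g.base p ∈ (⊤ : Y.Opens) := trivial
  letI : Algebra (Y.presheaf.obj (op ⊤)) (Y.presheaf.stalk (g.base p)) :=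
    TopCat.Presheaf.algebra_section_stalk Y.presheaf (⟨g.base p, hy⟩ : (⊤ : Y.Opens))
  haveI := (isAffineOpen_top Y).isLocalization_stalk ⟨g.base p, hy⟩
  choose w hw using fun j => hs (z j)
  obtain ⟨b, hb⟩ := IsLocalization.exist_integer_multiples_of_finite
    ((isAffineOpen_top Y).primeIdealOf ⟨g.base p, hy⟩).asIdeal.primeCompl w
  choose a ha using hb
  refine ⟨(b : Y.presheaf.obj (op ⊤)), a,
    (IsLocalization.map_units (Y.presheaf.stalk (g.base p)) b).map (g.stalkMap p).hom, fun j => ?_⟩
  have e : algebraMap (Y.presheaf.obj (op ⊤)) (Y.presheaf.stalk (g.base p)) (a j) =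
      algebraMap (Y.presheaf.obj (op ⊤)) (Y.presheaf.stalk (g.base p)) (b : Y.presheaf.obj (op ⊤)) * w j :=
    (ha j).trans (Algebra.smul_def _ _)
  refine (congrArg (g.stalkMap p).hom e).trans ?_
  rw [map_mul]
  exact congrArg (_ * ·) (hw j)

include S T in
/-- **Lifting linear maps of fibres**, up to a scalar. -/
theorem exists_lift [IsAffine Y] (hs : Function.Surjective (g.stalkMap p))
    (L : (fib g p).obj M →ₗ[Z.presheaf.stalk p] (fib g p).obj N) :
    ∃ (c : Z.presheaf.stalk p) (f : M ⟶ N), IsUnit c ∧ ∀ v, (fib g p).map f v = c • L v := by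
  let L' := (T.equiv g p).toLinearMap ∘ₗ L ∘ₗ (S.equiv g p).symm.toLinearMap
  obtain ⟨c, a, hc, ha⟩ := exists_common_denominator g p hs
    (fun kl : Fin n × Fin m => LinearMap.toMatrix' L' kl.1 kl.2)
  let f : M ⟶ N := ∑ l, ∑ k, S.π l ≫ homOfSec (a (k, l)) ≫ T.ι k
  refine ⟨ψT g p c, f, hc, fun v => (T.equiv g p).injective ?_⟩
  have hf : ∀ k l, S.ι l ≫ f ≫ T.π k = homOfSec (a (k, l)) := by
    intro k l
    simp only [f, Preadditive.sum_comp, Preadditive.comp_sum, Category.assoc, T.ι_π, reassoc_of% S.ι_π,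
      ite_comp, comp_ite, Category.id_comp, Category.comp_id, zero_comp, comp_zero]
    simp
  rw [equiv_map g p S T, map_smul]
  have hmat : (mat S T f).map (ψT g p) = ψT g p c • LinearMap.toMatrix' L' := by
    ext k l
    simp only [Matrix.map_apply, mat, Matrix.of_apply, hf, homOfSec_app, Matrix.smul_apply, smul_eq_mul]
    exact ha (k, l)
  rw [hmat, Matrix.smul_mulVec, LinearMap.toMatrix'_mulVec]
  simp [L']

/-- The fibre at a point of an open subscheme is the stalk of the restriction. -/
lemma isIso_pullback_map (O : Y.Opens) (f : M ⟶ N)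
    (h : ∀ y : (O : Scheme.{u}), Function.Bijective ((fib O.ι y).map f)) :
    IsIso ((Scheme.Modules.pullback O.ι).map f) := by
  refine KFlat.isIso_of_stalks _ fun y => ?_
  have h1 : IsIso ((fib O.ι y).map f) := (ConcreteCategory.isIso_iff_bijective _).2 (h y)
  exact (NatIso.isIso_map_iff (KFlat.pullStalkIso O.ι y) f).2 h1

include S in
/-- An endomorphism bijective in one fibre is an isomorphism nearby. -/
theorem exists_isIso_endo (f : M ⟶ M) (hp : IsField (Z.presheaf.stalk p))
    (hf : Function.Injective ((fib g p).map f)) :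
    ∃ O : Y.Opens, g.base p ∈ O ∧ IsIso ((Scheme.Modules.pullback O.ι).map f) := by
  letI : Field (Z.presheaf.stalk p) := hp.toField
  let D := (mat S S f).det
  have hD : IsUnit (ψT g p D) := by
    rw [RingHom.map_det]
    refine (Matrix.isUnit_iff_isUnit_det _).1 (Matrix.mulVec_injective_iff_isUnit.1 fun v w hvw => ?_)
    have := @hf ((S.equiv g p).symm v) ((S.equiv g p).symm w) ((S.equiv g p).injective (by
      rw [equiv_map g p S S, equiv_map g p S S]
      simpa using hvw))
    exact (S.equiv g p).symm.injective this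
  refine ⟨Y.basicOpen D, (Y.mem_basicOpen D (g.base p) trivial).2 (isUnit_of_map_unit (g.stalkMap p).hom _ hD),
    isIso_pullback_map (Y.basicOpen D) f fun y => ?_⟩
  let ι := (Y.basicOpen D).ι
  have hu : IsUnit ((mat S S f).map (ψT ι y)) := by
    rw [Matrix.isUnit_iff_isUnit_det]
    have : IsUnit (Y.presheaf.germ ⊤ (ι.base y) trivial D) := (Y.mem_basicOpen D _ trivial).1 y.2
    have h2 := this.map (ι.stalkMap y).hom
    have e : ((mat S S f).map (ψT ι y)).det = ψT ι y D := (RingHom.map_det _ _).symm
    rw [e]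
    exact h2
  refine ⟨fun v w hvw => ?_, fun w => ?_⟩
  · apply (S.equiv ι y).injective
    have := congrArg (S.equiv ι y) hvw
    rw [equiv_map ι y S S, equiv_map ι y S S] at this
    exact Matrix.mulVec_injective_of_isUnit hu this
  · obtain ⟨v, hv⟩ := Matrix.mulVec_surjective_iff_isUnit.2 hu (S.equiv ι y w)
    refine ⟨(S.equiv ι y).symm v, (S.equiv ι y).injective ?_⟩
    rw [equiv_map ι y S S]
    simpa using hv

end Groth.Agent.PerfLocus
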