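import Groth.Agent.Betti.Main
import Groth.Agent.PerfLocus.Concentrate
import Groth.Agent.PerfLocus.Local
import Mathlib.Algebra.Category.ModuleCat.Descent

/-!
# The open locus where a perfect complex is locally free in one degree
-/

set_option backward.isDefEq.respectTransparency false
set_option backward.isDefEq.respectTransparency.types false
set_option linter.style.haveILetI false
set_option autoImplicit false

universe u

open CategoryTheory Limits AlgebraicGeometry Opposite TopologicalSpace HomologicalComplex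

attribute [local instance] HasDerivedCategory.standard

namespace Groth.Agent.PerfLocus

open Groth.Agent.Betti

variable {X Y Z : Scheme.{u}}

/-- Pullback of complexes. -/
noncomputable abbrev pullCx (f : X ⟶ Y) : CochainComplex Y.Modules ℤ ⥤ CochainComplex X.Modules ℤ :=
  (Scheme.Modules.pullback f).mapHomologicalComplex (ComplexShape.up ℤ)

/-- A module in one degree. -/
noncomputable abbrev sg (X : Scheme.{u}) (i : ℤ) (M : X.Modules) : CochainComplex X.Modules ℤ :=
  (HomologicalComplex.single X.Modules (ComplexShape.up ℤ) i).obj M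

/-- Pullbacks compose on complexes. -/
noncomputable def pullCxCompIso (f : X ⟶ Y) (g : Y ⟶ Z) (K : CochainComplex Z.Modules ℤ) :
    (pullCx f).obj ((pullCx g).obj K) ≅ (pullCx (f ≫ g)).obj K :=
  HomologicalComplex.Hom.isoOfComponents (fun n => (Scheme.Modules.pullbackComp f g).app (K.X n))
    fun a b _ => ((Scheme.Modules.pullbackComp f g).hom.naturality (K.d a b)).symm

/-- Pullback of a free module in one degree. -/
noncomputable def pullSgFreeIso (f : X ⟶ Y) (i : ℤ) (r : ℕ) :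
    (pullCx f).obj (sg Y i (FlatMod.freeMod Y r)) ≅ sg X i (FlatMod.freeMod X r) :=
  (HomologicalComplex.singleMapHomologicalComplex (Scheme.Modules.pullback f) (ComplexShape.up ℤ) i).app _ ≪≫
    (HomologicalComplex.single X.Modules (ComplexShape.up ℤ) i).mapIso (DerPerf.pullFreeIso f r)

lemma isKFlat_sg (i : ℤ) {M : X.Modules} (hM : FlatMod.IsFlat M) : DCoh.IsKFlat (sg X i M) := by
  refine KFlat.isKFlat_of_vanishesOutside (a := i) (b := i) (fun n hn => ?_) fun n => ?_
  · exact HomologicalComplex.isZero_single_obj_X _ i M n (by omega)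
  · by_cases hn : n = i
    · subst hn
      exact KFlat.isFlat_of_iso (HomologicalComplex.singleObjXSelf _ n M).symm hM
    · exact KFlat.isFlat_of_isZero (HomologicalComplex.isZero_single_obj_X _ i M n hn)

/-- Pullback preserves isomorphisms in the derived category between K-flat complexes. -/
lemma qPull (f : X ⟶ Y) {K L : CochainComplex Y.Modules ℤ} (hK : DCoh.IsKFlat K) (hL : DCoh.IsKFlat L)
    (e : DCoh.toD Y K ≅ DCoh.toD Y L) :
    Nonempty (DCoh.toD X ((pullCx f).obj K) ≅ DCoh.toD X ((pullCx f).obj L)) := by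
  have := KFlat.hasLpull f
  exact ⟨(KFlat.lpullIso f hK).symm ≪≫ (DCoh.Lpull f).mapIso e ≪≫ KFlat.lpullIso f hL⟩

/-- `F` is a free module of rank `r` in degree `i` after pullback along `t`. -/
def HasModel (t : Z ⟶ X) (F : CochainComplex X.Modules ℤ) (i : ℤ) (r : ℕ) : Prop :=
  Nonempty (DCoh.toD Z ((pullCx t).obj F) ≅ DCoh.toD Z (sg Z i (FlatMod.freeMod Z r)))

lemma HasModel.comp {W : Scheme.{u}} {t : Z ⟶ X} {F : CochainComplex X.Modules ℤ} {i : ℤ} {r : ℕ}
    (hF : DCoh.IsKFlat F) (h : HasModel t F i r) (t' : W ⟶ Z) : HasModel (t' ≫ t) F i r := by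
  obtain ⟨e⟩ := h
  obtain ⟨e'⟩ := qPull t' (KFlat.isKFlat_pullback t hF)
    (isKFlat_sg i (DerPerf.isFlat_freeMod Z r)) e
  exact ⟨DerivedCategory.Q.mapIso (pullCxCompIso t' t F).symm ≪≫ e' ≪≫
    DerivedCategory.Q.mapIso (pullSgFreeIso t' i r)⟩

/-- The fibre at a point has homology of rank `r` in degree `i` only. -/
def IsDelta (g : Z ⟶ X) (p : Z) (F : CochainComplex X.Modules ℤ) (i : ℤ) (r : ℕ) : Prop :=
  ∀ j : ℤ, Module.rank (Z.presheaf.stalk p) (((fibCx g p).obj F).homology j) =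
    ((if j = i then r else 0 : ℕ) : Cardinal)

/-- The fibre complex is the stalk of the pullback. -/
noncomputable def fibHomologyIso (g : Z ⟶ X) (p : Z) (F : CochainComplex X.Modules ℤ) (j : ℤ) :
    (DerSch.stalkFunctor Z p).obj (((pullCx g).obj F).homology j) ≅ ((fibCx g p).obj F).homology j :=
  ((((pullCx g).obj F).sc j).mapHomologyIso (DerSch.stalkFunctor Z p)).symm ≪≫
    (HomologicalComplex.homologyFunctor _ _ j).mapIso
      (show ((DerSch.stalkFunctor Z p).mapHomologicalComplex _).obj ((pullCx g).obj F) ≅ (fibCx g p).obj F from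
        HomologicalComplex.Hom.isoOfComponents (fun n => (KFlat.pullStalkIso g p).app (F.X n))
          fun a b _ => ((KFlat.pullStalkIso g p).hom.naturality (F.d a b)).symm)

lemma rank_congr_of_homologyIso {W : Scheme.{u}} (g : Z ⟶ X) (g' : Z ⟶ W) (p : Z)
    (F : CochainComplex X.Modules ℤ) (G : CochainComplex W.Modules ℤ) (j : ℤ)
    (e : DCoh.toD Z ((pullCx g).obj F) ≅ DCoh.toD Z ((pullCx g').obj G)) :
    Module.rank (Z.presheaf.stalk p) (((fibCx g p).obj F).homology j) =
      Module.rank (Z.presheaf.stalk p) (((fibCx g' p).obj G).homology j) :=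
  ((fibHomologyIso g p F j).symm ≪≫ (DerSch.stalkFunctor Z p).mapIso
    ((KFlat.hdIso _ j).symm ≪≫ (DerivedCategory.homologyFunctor Z.Modules j).mapIso e ≪≫ KFlat.hdIso _ j) ≪≫
      fibHomologyIso g' p G j).toLinearEquiv.rank_eq

lemma isDelta_of_hasModel (g : Z ⟶ X) (p : Z) (F : CochainComplex X.Modules ℤ) (i : ℤ) (r : ℕ)
    (h : HasModel g F i r) : IsDelta g p F i r := by
  obtain ⟨e⟩ := h
  intro j
  have : Nontrivial (Z.presheaf.stalk p) := inferInstance
  let u : ((fibCx g p).obj F).homology j ≅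
      (DerSch.stalkFunctor Z p).obj ((sg Z i (FlatMod.freeMod Z r)).homology j) :=
    (fibHomologyIso g p F j).symm ≪≫ (DerSch.stalkFunctor Z p).mapIso
      ((KFlat.hdIso _ j).symm ≪≫ (DerivedCategory.homologyFunctor Z.Modules j).mapIso e ≪≫ KFlat.hdIso _ j)
  rw [u.toLinearEquiv.rank_eq]
  split_ifs with hj
  · subst hj
    let S : Split (FlatMod.freeMod Z r) r := Split.ofIso (Iso.refl _)
    let v : (DerSch.stalkFunctor Z p).obj ((sg Z j (FlatMod.freeMod Z r)).homology j) ≅
        (fib (𝟙 Z) p).obj (FlatMod.freeMod Z r) :=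
      (DerSch.stalkFunctor Z p).mapIso (HomologicalComplex.singleObjHomologySelfIso _ j _ ≪≫
        ((Scheme.Modules.pullbackId Z).app _).symm) ≪≫ (KFlat.pullStalkIso (𝟙 Z) p).app _
    refine (v.toLinearEquiv ≪≫ₗ S.equiv (𝟙 Z) p).rank_eq.trans ?_
    simp
  · have hz := (DerSch.stalkFunctor Z p).map_isZero
      (ShortComplex.isZero_homology_of_isZero_X₂ ((sg Z i (FlatMod.freeMod Z r)).sc j)
        (HomologicalComplex.isZero_single_obj_X (ComplexShape.up ℤ) i _ j hj))
    have : Subsingleton ((DerSch.stalkFunctor Z p).obj ((sg Z i (FlatMod.freeMod Z r)).homology j)) :=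
      ModuleCat.subsingleton_of_isZero hz
    simp

/-- Fibres of compositions. -/
noncomputable def fibCompIso {W : Scheme.{u}} (t : W ⟶ Z) (g : Z ⟶ X) (p : W) :
    fib (t ≫ g) p ≅ Scheme.Modules.pullback g ⋙ fib t p :=
  (KFlat.pullStalkIso (t ≫ g) p).symm ≪≫
    Functor.isoWhiskerRight (Scheme.Modules.pullbackComp t g).symm _ ≪≫
    Functor.associator _ _ _ ≪≫ Functor.isoWhiskerLeft _ (KFlat.pullStalkIso t p)

lemma isDelta_congr_point (t : Z ⟶ Y) (g g' : Y ⟶ X) (hg : g = g') (p : Z) {F : CochainComplex X.Modules ℤ}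
    {i : ℤ} {r : ℕ} (h : IsDelta (t ≫ g) p F i r) : IsDelta (t ≫ g') p F i r := by
  subst hg; exact h

/-- Extension of the field does not change the ranks. -/
lemma isDelta_comp_iff {W : Scheme.{u}} (t : W ⟶ Z) (g : Z ⟶ X) (p : W)
    (hp : IsField (Z.presheaf.stalk (t.base p))) (F : CochainComplex X.Modules ℤ) (i : ℤ) (r : ℕ) :
    IsDelta (t ≫ g) p F i r ↔ IsDelta g (t.base p) F i r := by
  let φ := (t.stalkMap p).hom
  letI : Field (Z.presheaf.stalk (t.base p)) := hp.toField
  have hflat : φ.Flat := by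
    letI := φ.toAlgebra
    exact (inferInstance : Module.Flat (Z.presheaf.stalk (t.base p)) (W.presheaf.stalk p))
  have := ModuleCat.preservesFiniteLimits_extendScalars_of_flat hflat
  have : (ModuleCat.extendScalars.{u, u, u} φ).PreservesHomology := inferInstance
  refine forall_congr' fun j => ?_
  let N : fib (t ≫ g) p ≅ fib g (t.base p) ⋙ ModuleCat.extendScalars.{u, u, u} φ :=
    fibCompIso t g p ≪≫ (Functor.associator _ _ _).symm ≪≫
      Functor.isoWhiskerRight (KFlat.pullStalkIso g (t.base p)) _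
  let e : ((fibCx (t ≫ g) p).obj F).homology j ≅
      (ModuleCat.extendScalars.{u, u, u} φ).obj (((fibCx g (t.base p)).obj F).homology j) :=
    (HomologicalComplex.homologyFunctor _ _ j).mapIso
      (show (fibCx (t ≫ g) p).obj F ≅
          ((ModuleCat.extendScalars.{u, u, u} φ).mapHomologicalComplex _).obj ((fibCx g (t.base p)).obj F) from
        HomologicalComplex.Hom.isoOfComponents (fun n => N.app (F.X n))
          fun a b _ => (N.hom.naturality (F.d a b)).symm) ≪≫
      (((fibCx g (t.base p)).obj F).sc j).mapHomologyIso (ModuleCat.extendScalars.{u, u, u} φ)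
  rw [e.toLinearEquiv.rank_eq]
  letI := φ.toAlgebra
  have hb : Module.rank (W.presheaf.stalk p)
      ((ModuleCat.extendScalars.{u, u, u} φ).obj (((fibCx g (t.base p)).obj F).homology j)) =
      Module.rank (Z.presheaf.stalk (t.base p)) (((fibCx g (t.base p)).obj F).homology j) := by
    refine Eq.trans ?_ (Cardinal.lift_id _)
    exact Module.rank_baseChange
  rw [hb]

/-- A generalised inverse of a linear map of vector spaces. -/
lemma exists_genInv {K : Type u} [Field K] {A B : Type u} [AddCommGroup A] [Module K A] [AddCommGroup B]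
    [Module K B] (d : A →ₗ[K] B) : ∃ L : B →ₗ[K] A, ∀ v, d (L (d v)) = d v := by
  obtain ⟨s, hs⟩ := d.rangeRestrict.exists_rightInverse_of_surjective (LinearMap.range_rangeRestrict d)
  obtain ⟨L, hL⟩ := LinearMap.exists_extend s
  refine ⟨L, fun v => ?_⟩
  have h1 : L (d v) = s (d.rangeRestrict v) := LinearMap.congr_fun hL (d.rangeRestrict v)
  rw [h1]
  exact congrArg Subtype.val (LinearMap.congr_fun hs (d.rangeRestrict v))

lemma isIso_pullback_of_le {O O' : X.Opens} (h : O' ≤ O) {M N : X.Modules} (f : M ⟶ N)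
    (hf : IsIso ((Scheme.Modules.pullback O.ι).map f)) : IsIso ((Scheme.Modules.pullback O'.ι).map f) := by
  have : IsIso ((Scheme.Modules.pullback O.ι ⋙ Scheme.Modules.pullback (X.homOfLE h)).map f) :=
    inferInstanceAs (IsIso ((Scheme.Modules.pullback (X.homOfLE h)).map ((Scheme.Modules.pullback O.ι).map f)))
  exact (NatIso.isIso_map_iff
    (Scheme.Modules.pullbackComp (X.homOfLE h) O.ι ≪≫ Scheme.Modules.pullbackCongr (X.homOfLE_ι h)) f).1 this

/-- A free module pulls back to a free module. -/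
lemma split_pullback (f : X ⟶ Y) {M : Y.Modules} {n : ℕ} (e : M ≅ FlatMod.freeMod Y n) :
    Nonempty ((Scheme.Modules.pullback f).obj M ≅ FlatMod.freeMod X n) :=
  ⟨(Scheme.Modules.pullback f).mapIso e ≪≫ DerPerf.pullFreeIso f n⟩

/-- A retract of a free module whose fibre has dimension `r` is free of rank `r` nearby. -/
theorem exists_free_of_retract [IsAffine Y] (g : Z ⟶ Y) (p : Z) (hp : IsField (Z.presheaf.stalk p))
    (hs : Function.Surjective (g.stalkMap p)) {M V : Y.Modules} {n : ℕ} (S : Split M n)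
    (j : V ⟶ M) (q : M ⟶ V) (hjq : j ≫ q = 𝟙 V) (r : ℕ)
    (hr : Module.rank (Z.presheaf.stalk p) ((fib g p).obj V) = r) :
    ∃ O : Y.Opens, g.base p ∈ O ∧
      Nonempty ((Scheme.Modules.pullback O.ι).obj V ≅ FlatMod.freeMod (O : Scheme.{u}) r) := by
  letI : Field (Z.presheaf.stalk p) := hp.toField
  let R := FlatMod.freeMod Y r
  let SR : Split R r := Split.ofIso (Iso.refl _)
  have : Module.Finite (Z.presheaf.stalk p) ((fib g p).obj V) := Module.finite_of_rank_eq_nat hr
  let E : (fib g p).obj R ≃ₗ[Z.presheaf.stalk p] (fib g p).obj V :=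
    SR.equiv g p ≪≫ₗ (Module.finBasisOfFinrankEq _ _ (Module.finrank_eq_of_rank_eq hr)).equivFun.symm
  obtain ⟨c₁, f₁, hc₁, hf₁⟩ := exists_lift g p SR S hs (((fib g p).map j).hom ∘ₗ E.toLinearMap)
  obtain ⟨c₂, f₂, hc₂, hf₂⟩ := exists_lift g p S SR hs (E.symm.toLinearMap ∘ₗ ((fib g p).map q).hom)
  have hjq' : ∀ v, (fib g p).map q ((fib g p).map j v) = v := fun v => by
    rw [← ConcreteCategory.comp_apply, ← Functor.map_comp, hjq, CategoryTheory.Functor.map_id]; rfl
  let ι : R ⟶ V := f₁ ≫ q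
  let π : V ⟶ R := j ≫ f₂
  have hι : ∀ v, (fib g p).map ι v = c₁ • E v := fun v => by
    simp only [ι, Functor.map_comp, ConcreteCategory.comp_apply]
    rw [hf₁, map_smul]
    exact congrArg (c₁ • ·) (hjq' _)
  have hπ : ∀ v, (fib g p).map π v = c₂ • E.symm v := fun v => by
    simp only [π, Functor.map_comp, ConcreteCategory.comp_apply]
    rw [hf₂]
    exact congrArg (c₂ • ·) (congrArg E.symm (hjq' v))
  obtain ⟨O₁, hO₁, h₁⟩ := exists_isIso_endo g p SR (ι ≫ π) hp (fun v w h => by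
    simp only [Functor.map_comp, ConcreteCategory.comp_apply, hι, map_smul, hπ,
      LinearEquiv.symm_apply_apply, smul_smul] at h
    exact (hc₁.mul hc₂).smul_left_cancel.1 (by simpa [mul_comm] using h))
  obtain ⟨O₂, hO₂, h₂⟩ := exists_isIso_endo g p S (q ≫ (π ≫ ι) ≫ j + (𝟙 M - q ≫ j)) hp
    ((injective_iff_map_eq_zero ((fib g p).map _).hom).2 fun v hv => by
      have hv' : (fib g p).map (q ≫ (π ≫ ι) ≫ j + (𝟙 M - q ≫ j)) v =
          (fib g p).map j ((c₂ * c₁) • (fib g p).map q v) + (v - (fib g p).map j ((fib g p).map q v)) := by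
        rw [Functor.map_add, Functor.map_sub, CategoryTheory.Functor.map_id]
        change (fib g p).map (q ≫ (π ≫ ι) ≫ j) v + (v - (fib g p).map (q ≫ j) v) = _
        have hcm : ∀ {A₁ A₂ A₃ : Y.Modules} (a : A₁ ⟶ A₂) (b : A₂ ⟶ A₃) (w : (fib g p).obj A₁),
            (fib g p).map (a ≫ b) w = (fib g p).map b ((fib g p).map a w) := fun a b w => by
          rw [(fib g p).map_comp]; rfl
        rw [hcm q ((π ≫ ι) ≫ j), hcm (π ≫ ι) j, hcm π ι, hcm q j, hπ, map_smul, hι, smul_smul, LinearEquiv.apply_symm_apply]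
      have h0 := hv'.symm.trans hv
      have hq : (fib g p).map q v = 0 := by
        have h1 := congrArg ((fib g p).map q) h0
        rw [map_add, map_sub, hjq', hjq', map_zero, sub_self, add_zero] at h1
        exact (hc₂.mul hc₁).smul_eq_zero.1 h1
      rw [hq, smul_zero, map_zero, zero_add, sub_zero] at h0
      exact h0)
  let O := O₁ ⊓ O₂
  let G := Scheme.Modules.pullback O.ι
  have i₁ : IsIso (G.map (ι ≫ π)) := isIso_pullback_of_le inf_le_left _ h₁
  have i₂ : IsIso (G.map (q ≫ (π ≫ ι) ≫ j + (𝟙 M - q ≫ j))) := isIso_pullback_of_le inf_le_right _ h₂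
  let Φ : M ⟶ M := q ≫ (π ≫ ι) ≫ j + (𝟙 M - q ≫ j)
  have a₁ : j ≫ Φ = (π ≫ ι) ≫ j := by
    simp [Φ, reassoc_of% hjq, Preadditive.comp_sub]
  have a₂ : Φ ≫ q = q ≫ (π ≫ ι) := by
    simp [Φ, hjq, Preadditive.add_comp, Preadditive.sub_comp]
  have hjqG : G.map j ≫ G.map q = 𝟙 _ := by rw [← Functor.map_comp, hjq, CategoryTheory.Functor.map_id]
  have : IsIso (G.map (π ≫ ι)) := by
    have hi : IsIso (G.map Φ) := i₂
    refine ⟨G.map j ≫ inv (G.map Φ) ≫ G.map q, ?_, ?_⟩
    · rw [← Category.assoc, ← Functor.map_comp, ← a₁, Functor.map_comp, Category.assoc,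
        IsIso.hom_inv_id_assoc, hjqG]
    · rw [Category.assoc, Category.assoc, ← G.map_comp q, ← a₂, Functor.map_comp,
        IsIso.inv_hom_id_assoc, hjqG]
  have i₃ : IsIso (G.map π) := by
    rw [Functor.map_comp] at i₁ this
    have : Mono (G.map π) := mono_of_mono (G.map π) (G.map ι)
    have : Epi (G.map π) := epi_of_epi (G.map ι) (G.map π)
    exact isIso_of_mono_of_epi _
  exact ⟨O, ⟨hO₁, hO₂⟩, ⟨asIso (G.map π) ≪≫ DerPerf.pullFreeIso O.ι r⟩⟩

/-- **The criterion.** -/
theorem exists_model_of_isDelta {F : CochainComplex X.Modules ℤ} (hF : DCoh.IsKFlat F)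
    (hperf : DCoh.IsPerfect (DCoh.toD X F)) (i : ℤ) (r : ℕ) (x : X) (p : Spec (X.residueField x))
    (hδ : IsDelta (X.fromSpecResidueField x) p F i r) :
    ∃ (T : Scheme.{u}) (t : T ⟶ X) (_ : IsOpenImmersion t), x ∈ Set.range t.base ∧ HasModel t F i r := by
  obtain ⟨U, hU, P, hP, ⟨u⟩⟩ := (DerPerf.isPerfect_iff_rep (Iso.refl _)).1 hperf x
  obtain ⟨a, b, hab⟩ := hP.1
  let s := Finset.Icc a b
  have hzero : ∀ n, n ∉ s → IsZero (P.X n) := fun n hn => hab n (by
    simp only [s, Finset.mem_Icc, not_and_or, not_le] at hn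
    exact hn)
  obtain ⟨W₀, hW₀, hfree⟩ := DerPerf.exists_common_free s (fun n => P.X n) (fun n _ => hP.2 n) ⟨x, hU⟩
  obtain ⟨A, hA, hxA, -⟩ := exists_isAffineOpen_mem_and_subset (X := (W₀ : Scheme.{u}))
    (x := ⟨⟨x, hU⟩, hW₀⟩) (U := ⊤) trivial
  have : IsAffine (A : Scheme.{u}) := hA
  let j : (A : Scheme.{u}) ⟶ (U : Scheme.{u}) := A.ι ≫ W₀.ι
  let t : (A : Scheme.{u}) ⟶ X := j ≫ U.ι
  let P' := (pullCx j).obj P
  have hP' : DCoh.IsKFlat P' := KFlat.isKFlat_pullback j (DerPerf.isKFlat_of_isStrictlyPerfect hP)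
  have hsplit : ∀ n, ∃ k, Nonempty (Split (P'.X n) k) := fun n => by
    by_cases hn : n ∈ s
    · obtain ⟨k, ⟨e⟩⟩ := hfree n hn
      obtain ⟨e'⟩ := split_pullback A.ι e
      exact ⟨k, ⟨Split.ofIso ((Scheme.Modules.pullbackComp A.ι W₀.ι).symm.app _ ≪≫ e')⟩⟩
    · exact ⟨0, ⟨⟨Fin.elim0, Fin.elim0, fun k => k.elim0,
        ((Scheme.Modules.pullback j).map_isZero (hzero n hn)).eq_of_src _ _⟩⟩⟩
  choose k hk using hsplit
  let S : ∀ n, Split (P'.X n) (k n) := fun n => (hk n).some
  let g : Spec (X.residueField x) ⟶ (A : Scheme.{u}) := IsOpenImmersion.lift t (X.fromSpecResidueField x) (by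
    rw [Scheme.range_fromSpecResidueField]
    exact Set.singleton_subset_iff.2 ⟨⟨⟨⟨x, hU⟩, hW₀⟩, hxA⟩, rfl⟩)
  have hgt : g ≫ t = X.fromSpecResidueField x := IsOpenImmersion.lift_fac _ _ _
  have : IsPreimmersion g := by
    have : IsPreimmersion (g ≫ t) := by rw [hgt]; infer_instance
    exact IsPreimmersion.of_comp g t
  have hfield : IsField ((Spec (X.residueField x)).presheaf.stalk p) :=
    isField_stalk_SpecField _ (Field.toIsField _) p
  have hsurj : Function.Surjective (g.stalkMap p) := g.stalkMap_surjective p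
  -- the model `P'` of `t^* F`
  obtain ⟨eP⟩ : Nonempty (DCoh.toD (A : Scheme.{u}) ((pullCx t).obj F) ≅ DCoh.toD _ P') := by
    obtain ⟨e⟩ := qPull j (DerPerf.isKFlat_restrictCx U hF) (DerPerf.isKFlat_of_isStrictlyPerfect hP) u
    let N : Scheme.Modules.pullback t ≅ Scheme.Modules.restrictFunctor U.ι ⋙ Scheme.Modules.pullback j :=
      (Scheme.Modules.pullbackComp j U.ι).symm ≪≫
        Functor.isoWhiskerRight (Scheme.Modules.restrictFunctorIsoPullback U.ι).symm _
    exact ⟨DerivedCategory.Q.mapIso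
      (show (pullCx t).obj F ≅ (pullCx j).obj ((DCoh.restrictCx U).obj F) from
        HomologicalComplex.Hom.isoOfComponents (fun n => N.app (F.X n))
          fun a b _ => (N.hom.naturality (F.d a b)).symm) ≪≫ e⟩
  have hδ' : IsDelta g p P' i r := fun n => by
    obtain ⟨e⟩ := qPull g (KFlat.isKFlat_pullback t hF) hP' eP
    rw [← hgt] at hδ
    exact (rank_congr_of_homologyIso (g ≫ t) g p F P' n
      (DerivedCategory.Q.mapIso (pullCxCompIso g t F).symm ≪≫ e)).symm.trans (hδ n)
  letI : Field ((Spec (X.residueField x)).presheaf.stalk p) := hfield.toField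
  -- an almost contracting homotopy
  choose L hL using fun (m : ℤ × ℤ) => exists_genInv (((fib g p).map (P'.d m.2 m.1)).hom)
  choose c f hc hf using fun (m : ℤ × ℤ) => exists_lift g p (S m.1) (S m.2) hsurj (L m)
  let hh : ∀ a b : ℤ, P'.X a ⟶ P'.X b := fun a b => f (a, b)
  have hinj : ∀ n, n ≠ i → Function.Injective ((fib g p).map (phi P' hh n)) := fun n hn => by
    refine (injective_iff_map_eq_zero ((fib g p).map _).hom).2 fun v hv => ?_
    let D : ∀ a b, (fib g p).obj (P'.X a) →ₗ[(Spec (X.residueField x)).presheaf.stalk p]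
      (fib g p).obj (P'.X b) := fun a b => ((fib g p).map (P'.d a b)).hom
    have hv' : c (n + 1, n) • L (n + 1, n) (D n (n + 1) v) + D (n - 1) n (c (n, n - 1) • L (n, n - 1) v) = 0 := by
      refine Eq.trans ?_ hv
      simp only [phi, nh, hh, Functor.map_add, Functor.map_comp]
      change _ = (fib g p).map (f (n + 1, n)) (D n (n + 1) v) + D (n - 1) n ((fib g p).map (f (n, n - 1)) v)
      rw [hf, hf]
    have hDD : ∀ w, D n (n + 1) (D (n - 1) n w) = 0 := fun w => by
      change ((fib g p).map (P'.d (n - 1) n) ≫ (fib g p).map (P'.d n (n + 1))).hom w = 0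
      rw [← Functor.map_comp, P'.d_comp_d, Functor.map_zero]
      rfl
    have h1 : D n (n + 1) v = 0 := by
      have := congrArg (D n (n + 1)) hv'
      rw [map_add, map_smul, hDD, add_zero, map_zero] at this
      have e : D n (n + 1) (L (n + 1, n) (D n (n + 1) v)) = D n (n + 1) v := hL (n + 1, n) v
      rw [e] at this
      exact (hc _).smul_eq_zero.1 this
    rw [h1, map_zero, smul_zero, zero_add, map_smul] at hv'
    have hv'' := (hc _).smul_eq_zero.1 hv'
    let T := ((fibCx g p).obj P').sc' (n - 1) n (n + 1)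
    have hT : T.Exact := by
      rw [← HomologicalComplex.exactAt_iff' _ _ _ _ (by simp) (by simp),
        exactAt_iff_isZero_homology]
      have h0 := hδ' n
      rw [if_neg hn, Nat.cast_zero] at h0
      have : Subsingleton (((fibCx g p).obj P').homology n) := rank_zero_iff.1 h0
      exact ModuleCat.isZero_of_subsingleton _
    obtain ⟨w, hw⟩ := (ShortComplex.moduleCat_exact_iff T).1 hT v h1
    have hw' : D (n - 1) n w = v := hw
    rw [← hw'] at hv''
    have e : D (n - 1) n (L (n, n - 1) (D (n - 1) n w)) = D (n - 1) n w := hL (n, n - 1) w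
    rw [e] at hv''
    exact hw' ▸ hv''
  have hopen : ∀ n, ∃ O : (A : Scheme.{u}).Opens, g.base p ∈ O ∧
      (n ≠ i → IsIso ((Scheme.Modules.pullback O.ι).map (phi P' hh n))) := fun n => by
    by_cases hn : n = i
    · exact ⟨⊤, trivial, fun h => absurd hn h⟩
    · obtain ⟨O, hO, hO'⟩ := exists_isIso_endo g p (S n) _ hfield (hinj n hn)
      exact ⟨O, hO, fun _ => hO'⟩
  choose O hO hOiso using hopen
  have hmem : g.base p ∈ s.inf O :=
    Finset.inf_induction (p := fun V : (A : Scheme.{u}).Opens => g.base p ∈ V) trivial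
      (fun _ h _ h' => ⟨h, h'⟩) fun n _ => hO n
  obtain ⟨B, hB, hxB, hBle⟩ := exists_isAffineOpen_mem_and_subset hmem
  have : IsAffine (B : Scheme.{u}) := hB
  let G := Scheme.Modules.pullback B.ι
  let C := (pullCx B.ι).obj P'
  have hiso : ∀ n, n ≠ i → IsIso (phi C (fun a b => G.map (hh a b)) n) := fun n hn => by
    have e : phi C (fun a b => G.map (hh a b)) n = G.map (phi P' hh n) := by
      simp only [phi, nh, Functor.map_add, Functor.map_comp]
      rfl
    rw [e]
    by_cases hs' : n ∈ s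
    · exact isIso_pullback_of_le (le_trans (show B ≤ s.inf O from hBle) (Finset.inf_le hs')) _ (hOiso n hn)
    · have hz : IsZero (G.obj (P'.X n)) := G.map_isZero ((Scheme.Modules.pullback j).map_isZero (hzero n hs'))
      exact ⟨0, hz.eq_of_src _ _, hz.eq_of_src _ _⟩
  obtain ⟨V, jV, qV, hjq, ⟨he⟩⟩ := exists_homotopyEquiv_single C (fun a b => G.map (hh a b)) i hiso
  let g' : Spec (X.residueField x) ⟶ (B : Scheme.{u}) := IsOpenImmersion.lift B.ι g (by
    rintro _ ⟨q, rfl⟩
    rw [Scheme.Opens.range_ι]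
    have := subsingleton_SpecField x
    exact Subsingleton.elim p q ▸ hxB)
  have hg' : g' ≫ B.ι = g := IsOpenImmersion.lift_fac _ _ _
  have : IsPreimmersion g' := by
    have : IsPreimmersion (g' ≫ B.ι) := by rw [hg']; infer_instance
    exact IsPreimmersion.of_comp g' B.ι
  have hrV : Module.rank ((Spec (X.residueField x)).presheaf.stalk p) ((fib g' p).obj V) = r := by
    let e₁ : (fibCx g' p).obj C ≅ (fibCx (g' ≫ B.ι) p).obj P' :=
      HomologicalComplex.Hom.isoOfComponents (fun n => ((fibCompIso g' B.ι p).app (P'.X n)).symm)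
        fun a b _ => ((fibCompIso g' B.ι p).inv.naturality (P'.d a b)).symm
    let e₂ : ((fibCx (g' ≫ B.ι) p).obj P').homology i ≅ (fib g' p).obj V :=
      (HomologicalComplex.homologyFunctor _ _ i).mapIso e₁.symm ≪≫
        ((fib g' p).mapHomotopyEquiv he).toHomologyIso i ≪≫
        (HomologicalComplex.homologyFunctor _ _ i).mapIso
          ((HomologicalComplex.singleMapHomologicalComplex (fib g' p) (ComplexShape.up ℤ) i).app V) ≪≫
        HomologicalComplex.singleObjHomologySelfIso _ i _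
    rw [← e₂.toLinearEquiv.rank_eq]
    have h0 := hδ' i
    rw [if_pos rfl] at h0
    rw [← hg'] at h0
    exact h0
  have hSC : ∃ k', Nonempty (Split (C.X i) k') := by
    by_cases hi : i ∈ s
    · obtain ⟨k', ⟨e⟩⟩ := hfree i hi
      obtain ⟨e'⟩ := split_pullback A.ι e
      obtain ⟨e''⟩ := split_pullback B.ι ((Scheme.Modules.pullbackComp A.ι W₀.ι).symm.app _ ≪≫ e')
      exact ⟨k', ⟨Split.ofIso e''⟩⟩
    · exact ⟨0, ⟨⟨Fin.elim0, Fin.elim0, fun k => k.elim0,
        (G.map_isZero ((Scheme.Modules.pullback j).map_isZero (hzero i hi))).eq_of_src _ _⟩⟩⟩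
  obtain ⟨kC, ⟨SC⟩⟩ := hSC
  obtain ⟨O', hO', ⟨eV⟩⟩ := exists_free_of_retract g' p hfield (g'.stalkMap_surjective p) SC jV qV hjq r hrV
  let Gc := pullCx O'.ι
  have eC : DCoh.toD (O' : Scheme.{u}) (Gc.obj C) ≅
      DCoh.toD _ (sg _ i (FlatMod.freeMod (O' : Scheme.{u}) r)) := by
    have he' := (Scheme.Modules.pullback O'.ι).mapHomotopyEquiv he
    have hq : QuasiIso he'.hom := he'.quasiIso_hom
    exact @asIso _ _ _ _ (DerivedCategory.Q.map he'.hom) inferInstance ≪≫
      DerivedCategory.Q.mapIso ((HomologicalComplex.singleMapHomologicalComplex _ (ComplexShape.up ℤ) i).app V ≪≫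
        (HomologicalComplex.single _ (ComplexShape.up ℤ) i).mapIso eV)
  refine ⟨O', (O'.ι ≫ B.ι) ≫ t, inferInstance, ⟨⟨g'.base p, hO'⟩, ?_⟩, ?_⟩
  · change ((g' ≫ B.ι) ≫ t).base p = x
    rw [hg', hgt]
    exact X.fromSpecResidueField_apply x p
  · obtain ⟨e⟩ := qPull (O'.ι ≫ B.ι) (KFlat.isKFlat_pullback t hF) hP' eP
    exact ⟨DerivedCategory.Q.mapIso (pullCxCompIso (O'.ι ≫ B.ι) t F).symm ≪≫ e ≪≫
      DerivedCategory.Q.mapIso (pullCxCompIso O'.ι B.ι P').symm ≪≫ eC⟩

lemma isZero_of_restrict {M : X.Modules}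
    (h : ∀ x : X, ∃ O : X.Opens, x ∈ O ∧ IsZero (M.restrict O.ι)) : IsZero M := by
  refine KFlat.isZero_of_stalks _ fun x => ?_
  obtain ⟨O, hxO, hO⟩ := h x
  have : ∀ v : M.presheaf.stalk x, v = 0 := fun v => by
    obtain ⟨W, hW, s, rfl⟩ := M.presheaf.exists_germ_eq (x := x) v
    have h1 : ∀ (U : (O : Scheme.{u}).Opens) (a : (M.restrict O.ι).presheaf.obj (op U)), a = 0 := fun U a => by
      have h2 := congrArg (fun φ => φ.app U a) ((IsZero.iff_id_eq_zero _).1 hO)
      simpa using h2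
    have hle : O.ι ''ᵁ (O.ι ⁻¹ᵁ W) ≤ W := O.ι.image_preimage_eq_opensRange_inf W ▸ inf_le_right
    have hx' : x ∈ O.ι ''ᵁ (O.ι ⁻¹ᵁ W) := ⟨⟨x, hxO⟩, hW, rfl⟩
    rw [← M.presheaf.germ_res_apply (homOfLE hle) x hx' s]
    exact (congrArg _ (h1 (O.ι ⁻¹ᵁ W) (M.presheaf.map (homOfLE hle).op s))).trans (map_zero _)
  have : Subsingleton ((DerSch.stalkFunctor X x).obj M) := ⟨fun a b => (this a).trans (this b).symm⟩
  exact ModuleCat.isZero_of_subsingleton _

/-- **The locus where a perfect object is locally free of rank `r` in degree `i`.** -/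
theorem exists_open (E : DCoh.D X) (hE : DCoh.IsPerfect E) (i : ℤ) (r : ℕ) :
    ∃ U : X.Opens, ∀ (Y : Scheme.{u}) (f : Y ⟶ X) [DCoh.HasLpull f], Set.range f.base ⊆ (U : Set X) ↔
      ∃ V : Y.Modules, FlatMod.IsFinLocFreeOfRank r V ∧
        Nonempty ((DCoh.Lpull f).obj E ≅ (DCoh.inD Y V)⟦-i⟧) := by
  obtain ⟨F, hF, -, ⟨e⟩⟩ := KFlat.exists_isKFlat_rep E
  have hperf : DCoh.IsPerfect (DCoh.toD X F) :=
    (DerPerf.isPerfect_iff_rep (Iso.refl _)).2 ((DerPerf.isPerfect_iff_rep e).1 hE)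
  refine ⟨⟨{x | ∃ (T : Scheme.{u}) (t : T ⟶ X) (_ : IsOpenImmersion t), x ∈ Set.range t.base ∧ HasModel t F i r},
    ?_⟩, fun Y f _ => ⟨fun hf => ?_, ?_⟩⟩
  · rw [isOpen_iff_forall_mem_open]
    rintro x ⟨T, t, ht, hx, hm⟩
    exact ⟨Set.range t.base, fun y hy => ⟨T, t, ht, hy, hm⟩, t.isOpenEmbedding.isOpen_range, hx⟩
  · let C := (pullCx f).obj F
    let eC : (DCoh.Lpull f).obj E ≅ DCoh.toD Y C := (DCoh.Lpull f).mapIso e.symm ≪≫ KFlat.lpullIso f hF
    have hloc : ∀ y : Y, ∃ O : Y.Opens, y ∈ O ∧ (∀ j, j ≠ i → IsZero ((C.homology j).restrict O.ι)) ∧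
        Nonempty ((C.homology i).restrict O.ι ≅ FlatMod.freeMod (O : Scheme.{u}) r) := fun y => by
      obtain ⟨T, t, ht, hy, hm⟩ := hf ⟨y, rfl⟩
      let O : Y.Opens := f ⁻¹ᵁ t.opensRange
      let f' : (O : Scheme.{u}) ⟶ T := IsOpenImmersion.lift t (O.ι ≫ f) (by
        rintro _ ⟨z, rfl⟩
        exact z.2)
      have hm' : HasModel (O.ι ≫ f) F i r := by
        have := hm.comp hF f'
        rwa [IsOpenImmersion.lift_fac] at this
      obtain ⟨em⟩ := hm'
      let N := Scheme.Modules.restrictFunctorIsoPullback O.ι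
      let e₁ : (DCoh.restrictCx O).obj C ≅ (pullCx (O.ι ≫ f)).obj F :=
        (show (DCoh.restrictCx O).obj C ≅ (pullCx O.ι).obj C from HomologicalComplex.Hom.isoOfComponents (fun n => N.app (C.X n))
          fun a b _ => (N.hom.naturality (C.d a b)).symm) ≪≫ pullCxCompIso O.ι f F
      let eh : ∀ j, (C.homology j).restrict O.ι ≅
          (sg (O : Scheme.{u}) i (FlatMod.freeMod (O : Scheme.{u}) r)).homology j := fun j =>
        ((C.sc j).mapHomologyIso (Scheme.Modules.restrictFunctor O.ι)).symm ≪≫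
          (HomologicalComplex.homologyFunctor _ _ j).mapIso e₁ ≪≫
          (KFlat.hdIso _ j).symm ≪≫ (DerivedCategory.homologyFunctor _ j).mapIso em ≪≫ KFlat.hdIso _ j
      refine ⟨O, hy, fun j hj => IsZero.of_iso ?_ (eh j),
        ⟨eh i ≪≫ HomologicalComplex.singleObjHomologySelfIso _ i _⟩⟩
      exact ShortComplex.isZero_homology_of_isZero_X₂ _
        (HomologicalComplex.isZero_single_obj_X (ComplexShape.up ℤ) i _ j hj)
    have hz : ∀ j, j ≠ i → IsZero (C.homology j) := fun j hj =>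
      isZero_of_restrict fun y => (hloc y).imp fun O h => ⟨h.1, h.2.1 j hj⟩
    have : C.IsGE i := (CochainComplex.isGE_iff C i).2 fun j hj =>
      (exactAt_iff_isZero_homology _ _).2 (hz j hj.ne)
    have : C.IsLE i := (CochainComplex.isLE_iff C i).2 fun j hj =>
      (exactAt_iff_isZero_homology _ _).2 (hz j hj.ne')
    obtain ⟨V, ⟨eV⟩⟩ := DerivedCategory.exists_iso_singleFunctor_obj_of_isGE_of_isLE (DCoh.toD Y C) i
    let eH : C.homology i ≅ V := (KFlat.hdIso C i).symm ≪≫
      (DerivedCategory.homologyFunctor _ i).mapIso eV ≪≫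
      (DerivedCategory.singleFunctorCompHomologyFunctorIso Y.Modules i).app V
    refine ⟨V, fun y => ?_, ⟨eC ≪≫ eV ≪≫
      (((DerivedCategory.singleFunctors Y.Modules).shiftIso (-i) i 0 (by omega)).app V).symm⟩⟩
    obtain ⟨O, hy, -, ⟨h⟩⟩ := hloc y
    exact ⟨O, hy, ⟨(Scheme.Modules.restrictFunctor O.ι).mapIso eH.symm ≪≫ h⟩⟩
  · rintro ⟨V, hV, ⟨eV⟩⟩ _ ⟨y, rfl⟩
    let C := (pullCx f).obj F
    have hflat : FlatMod.IsFlat V := DerPerf.isFlat_of_isFinLocFree fun z => by
      obtain ⟨U, hz, hU⟩ := hV z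
      exact ⟨U, r, hz, hU⟩
    let eC : DCoh.toD Y C ≅ DCoh.toD Y (sg Y i V) :=
      (KFlat.lpullIso f hF).symm ≪≫ (DCoh.Lpull f).mapIso e ≪≫ eV ≪≫
        ((DerivedCategory.singleFunctors Y.Modules).shiftIso (-i) i 0 (by omega)).app V ≪≫
        (DerivedCategory.singleFunctorIsoCompQ Y.Modules i).app V
    obtain ⟨O, hy, ⟨hO⟩⟩ := hV y
    obtain ⟨eO⟩ := qPull O.ι (KFlat.isKFlat_pullback f hF) (isKFlat_sg i hflat) eC
    have hm : HasModel (O.ι ≫ f) F i r := ⟨DerivedCategory.Q.mapIso (pullCxCompIso O.ι f F).symm ≪≫ eO ≪≫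
      DerivedCategory.Q.mapIso ((HomologicalComplex.singleMapHomologicalComplex _ (ComplexShape.up ℤ) i).app V ≪≫
        (HomologicalComplex.single _ (ComplexShape.up ℤ) i).mapIso
          ((Scheme.Modules.restrictFunctorIsoPullback O.ι).symm.app V ≪≫ hO))⟩
    let sy : Spec (Y.residueField y) ⟶ (O : Scheme.{u}) := IsOpenImmersion.lift O.ι (Y.fromSpecResidueField y) (by
      rw [Scheme.range_fromSpecResidueField, Scheme.Opens.range_ι]
      exact Set.singleton_subset_iff.2 hy)
    have := subsingleton_SpecField y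
    have := subsingleton_SpecField (f.base y)
    let py : Spec (Y.residueField y) := default
    let t := Spec.map (f.residueFieldMap y)
    have heq : sy ≫ O.ι ≫ f = t ≫ X.fromSpecResidueField (f.base y) := by
      rw [← Category.assoc, IsOpenImmersion.lift_fac]
      exact (Scheme.Hom.SpecMap_residueFieldMap_fromSpecResidueField f y).symm
    have hd : IsDelta (t ≫ X.fromSpecResidueField (f.base y)) py F i r :=
      isDelta_of_hasModel _ py F i r (heq ▸ hm.comp hF sy)
    exact exists_model_of_isDelta hF hperf i r _ _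
      ((isDelta_comp_iff t _ py (isField_stalk_SpecField _ (Field.toIsField _) _) F i r).1 hd)

end Groth.Agent.PerfLocus
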